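import Cfsg.Agent.H103.UnitaryNum
import Cfsg.Agent.H186.Unitary

/-!
Element orders in `PGU_d(q)`: the upper bound.
-/

set_option autoImplicit false
open Cfsg Matrix

namespace Cfsg.Agent.H103.PGUUpper

open Polynomial
open Cfsg.Agent.H186
open Cfsg.Agent.ClassicalGeometry.GUBasic

variable {F : Type*} [Field F] [Fintype F]

theorem charP_of_card {p f q : ℕ} (hp : p.Prime) (hq : q = p ^ f)
    (hF : Fintype.card F = q ^ 2) : CharP F p := by
  obtain ⟨r, hr⟩ := CharP.exists F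
  obtain ⟨n, hrp, hn⟩ := FiniteField.card F r
  have h1 : r ∣ p := by
    have h2 : r ∣ q ^ 2 := by rw [← hF, hn]; exact dvd_pow_self r n.pos.ne'
    rw [hq, ← pow_mul] at h2
    exact hrp.dvd_of_dvd_pow h2
  have h2 : r = p := (Nat.prime_dvd_prime_iff_eq hrp hp).1 h1
  rwa [← h2]

theorem charpoly_inv_map {p f q d : ℕ} [Fact p.Prime] [CharP F p] (hq : q = p ^ f)
    (hF : Fintype.card F = q ^ 2) (g : GL (Fin d) F) (hg : g ∈ Cfsg.GU d F q) :
    ((g⁻¹ : GL (Fin d) F) : Matrix (Fin d) (Fin d) F).charpoly.map (iterateFrobenius F p f)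
      = (g : Matrix (Fin d) (Fin d) F).charpoly := by
  have hg' : g⁻¹ ∈ Cfsg.GU d F q := (Cfsg.GU d F q).inv_mem hg
  have h1 := (mem_GU_iff_st hF g⁻¹).1 hg'
  have h2 : st q ((g⁻¹ : GL (Fin d) F) : Matrix (Fin d) (Fin d) F)
      = (g : Matrix (Fin d) (Fin d) F) := by
    have h3 : st q ((g⁻¹ : GL (Fin d) F) : Matrix (Fin d) (Fin d) F) *
        ((g⁻¹ : GL (Fin d) F) : Matrix (Fin d) (Fin d) F) * (g : Matrix (Fin d) (Fin d) F)
        = (g : Matrix (Fin d) (Fin d) F) := by rw [h1, one_mul]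
    rw [mul_assoc, Units.inv_mul, mul_one] at h3
    exact h3
  have h4 : st q ((g⁻¹ : GL (Fin d) F) : Matrix (Fin d) (Fin d) F)
      = (((g⁻¹ : GL (Fin d) F) : Matrix (Fin d) (Fin d) F).map (iterateFrobenius F p f))ᵀ := by
    rw [st]
    congr 1
    ext i j
    rw [Matrix.map_apply, Matrix.map_apply, iterateFrobenius_def, hq]
  rw [← Matrix.charpoly_map, ← Matrix.charpoly_transpose, ← h4, h2]

theorem scalar_mem_center {d q : ℕ} (g : Cfsg.GU d F q) {r : F}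
    (h : Matrix.scalar (Fin d) r = ((g : GL (Fin d) F) : Matrix (Fin d) (Fin d) F)) :
    g ∈ Subgroup.center (Cfsg.GU d F q) := by
  rw [Subgroup.mem_center_iff]
  intro x
  apply Subtype.ext
  apply Units.ext
  change ((x : GL (Fin d) F) : Matrix (Fin d) (Fin d) F) * ((g : GL (Fin d) F) : Matrix _ _ F)
    = ((g : GL (Fin d) F) : Matrix _ _ F) * ((x : GL (Fin d) F) : Matrix (Fin d) (Fin d) F)
  rw [← h]
  exact (Matrix.scalar_commute r (Commute.all r) _).symm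

/-- The basic bound. -/
theorem upper {p f d q : ℕ} (hp : p.Prime) (hf : 1 ≤ f) (hq : q = p ^ f)
    (hF : Fintype.card F = q ^ 2) (hd : 3 ≤ d) (h32 : ¬ (d = 3 ∧ q = 2))
    (g : (↥(Cfsg.GU d F q) ⧸ Subgroup.center ↥(Cfsg.GU d F q))) :
    ∃ k : ℕ, orderOf g ≤ k ∧ (k < q ^ (d - 1) ∨ (k : ℤ) ≤ (q : ℤ) ^ (d - 1) + (-1) ^ d ∨
      (k : ℤ) ≤ p * ((q : ℤ) ^ (d - 2) - (-1) ^ d) ∨
      (p = 2 ∧ 4 ≤ d ∧ (k : ℤ) ≤ 4 * ((q : ℤ) ^ (d - 3) + (-1) ^ d))) := by
  have : Fact p.Prime := ⟨hp⟩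
  have hch := charP_of_card hp hq hF
  have : Nonempty (Fin d) := ⟨⟨0, by omega⟩⟩
  have hpL : CharP (AlgebraicClosure F) p := charP_of_injective_algebraMap
    (algebraMap F (AlgebraicClosure F)).injective p
  obtain ⟨x, rfl⟩ := QuotientGroup.mk'_surjective _ g
  obtain ⟨k, m, c, hk0, ⟨r, hk1⟩, hm1, hmd, hc, hk2⟩ :=
    Cfsg.Agent.H103.Unitary.unitary_bound (L := AlgebraicClosure F) p q f hq hf (x : GL (Fin d) F)
      (IsAlgClosed.splits _)
      (Cfsg.Agent.H103.UnitaryField.hroot_of_charpoly p q f hq hf (iterateFrobenius F p f)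
        (fun a => by rw [iterateFrobenius_def, hq]) (x : GL (Fin d) F)
        (charpoly_inv_map hq hF _ x.2))
  rw [Fintype.card_fin] at hmd hc
  have hpq : p ≤ q := by rw [hq]; exact Nat.le_self_pow (by omega) p
  refine ⟨k, ?_, Cfsg.Agent.H103.UnitaryNum.lemM p q d k m c hp.two_le hpq hd h32 hm1 hmd hc hk2⟩
  apply orderOf_le_of_pow_eq_one hk0
  rw [← map_pow]
  apply (QuotientGroup.eq_one_iff _).2
  exact scalar_mem_center (x ^ k) (r := r) hk1

theorem exists_scalar_of_center {d q : ℕ} (hF : Fintype.card F = q ^ 2) (hd : 1 ≤ d)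
    {g : Cfsg.GU d F q} (hg : g ∈ Subgroup.center (Cfsg.GU d F q)) :
    ∃ r : F, ((g : GL (Fin d) F) : Matrix (Fin d) (Fin d) F) = Matrix.scalar (Fin d) r := by
  obtain ⟨c, hc, h⟩ := (mem_center_GU_iff hF hd g).1 hg
  refine ⟨c, ?_⟩
  rw [h, coe_guDiag]
  rfl

end Cfsg.Agent.H103.PGUUpper
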