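import Cfsg.Agent.H103.UnitaryField

/-!
The arithmetic behind the largest element order of `PGU_d(q)`.
-/

set_option autoImplicit false

namespace Cfsg.Agent.H103.UnitaryNum

theorem one_pow_bounds (n : ℕ) : ((-1 : ℤ)) ^ n ≤ 1 ∧ -1 ≤ ((-1 : ℤ)) ^ n := by
  rcases neg_one_pow_eq_or ℤ n with h | h <;> rw [h] <;> norm_num

theorem succ_le_pow_pred (p c : ℕ) (hp : 2 ≤ p) (hc : 1 ≤ c) (h1 : c ≠ 1) (h2 : ¬ (c = 2 ∧ p = 2)) :
    c + 1 ≤ p ^ (c - 1) := by
  rcases Nat.lt_or_ge c 3 with h | h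
  · have hc2 : c = 2 := by omega
    subst hc2
    have : 3 ≤ p := by
      by_contra hcon
      exact h2 ⟨rfl, by omega⟩
    simpa using this
  · have h3 : ∀ c, 3 ≤ c → c + 1 ≤ 2 ^ (c - 1) := by
      intro c hc
      induction c, hc using Nat.le_induction with
      | base => norm_num
      | succ n hn ih =>
        have : n + 1 - 1 = (n - 1) + 1 := by omega
        rw [this, pow_succ]
        omega
    exact (h3 c h).trans (Nat.pow_le_pow_left hp _)

theorem lemM (p q d k m c : ℕ) (hp : 2 ≤ p) (hpq : p ≤ q) (hd : 3 ≤ d) (h32 : ¬ (d = 3 ∧ q = 2))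
    (hm1 : 1 ≤ m) (hmd : m ≤ d) (hc : c = 0 ∨ m + p ^ (c - 1) ≤ d)
    (h : (2 ≤ m ∧ (k : ℤ) ≤ p ^ c * ((q : ℤ) ^ (m - 1) + (-1) ^ m)) ∨
        ((q : ℤ) + 1) * k = p ^ c * ((q : ℤ) ^ m - (-1) ^ m)) :
    k < q ^ (d - 1) ∨ (k : ℤ) ≤ (q : ℤ) ^ (d - 1) + (-1) ^ d ∨
      (k : ℤ) ≤ p * ((q : ℤ) ^ (d - 2) - (-1) ^ d) ∨
      (p = 2 ∧ 4 ≤ d ∧ (k : ℤ) ≤ 4 * ((q : ℤ) ^ (d - 3) + (-1) ^ d)) := by
  have hq1 : 1 ≤ q := by omega
  have hq2 : 2 ≤ q := by omega
  obtain ⟨e, rfl⟩ := Nat.exists_eq_add_of_le' hd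
  have e1 : e + 3 - 1 = e + 2 := by omega
  have e2 : e + 3 - 2 = e + 1 := by omega
  have e3 : e + 3 - 3 = e := by omega
  rw [e1, e2, e3]
  have hqe : 1 ≤ q ^ e := Nat.one_le_pow _ _ hq1
  have p1 : q ^ (e + 1) = q ^ e * q := pow_succ _ _
  have p2 : q ^ (e + 2) = q ^ e * q * q := by rw [pow_succ, pow_succ]
  have hbig : q ^ (e + 1) + q ^ e < q ^ (e + 2) := by
    rw [p2, p1]
    nlinarith [Nat.mul_le_mul hqe hq2]
  rcases h with ⟨h2, h⟩ | h
  · -- several orbits
    have hk : k ≤ p ^ c * (q ^ (m - 1) + 1) := by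
      have h3 : (k : ℤ) ≤ p ^ c * ((q : ℤ) ^ (m - 1) + 1) :=
        h.trans (mul_le_mul_of_nonneg_left (by linarith [(one_pow_bounds m).1]) (by positivity))
      exact_mod_cast h3
    rcases Nat.eq_zero_or_pos c with h0 | h0
    · subst h0
      rw [pow_zero, one_mul] at h hk
      rcases Nat.lt_or_ge m (e + 3) with hm | hm
      · left
        have h4 : q ^ (m - 1) ≤ q ^ (e + 1) := Nat.pow_le_pow_right hq1 (by omega)
        omega
      · right; left
        have hme : m = e + 3 := by omega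
        subst hme
        rw [e1] at h
        exact h
    · have hc' : m + p ^ (c - 1) ≤ e + 3 := by
        rcases hc with h | h
        · omega
        · exact h
      by_cases c1 : c = 1
      · subst c1
        rw [pow_one] at h hk
        rw [Nat.sub_self, pow_zero] at hc'
        rcases Nat.lt_or_ge m (e + 2) with hm | hm
        · left
          obtain ⟨g, rfl⟩ : ∃ g, e = g + 1 := ⟨e - 1, by omega⟩
          have h4 : q ^ (m - 1) ≤ q ^ (g + 1) := Nat.pow_le_pow_right hq1 (by omega)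
          have hqg : 1 ≤ q ^ g := Nat.one_le_pow _ _ hq1
          calc k ≤ p * (q ^ (m - 1) + 1) := hk
            _ ≤ q * (q ^ (g + 1) + 1) := Nat.mul_le_mul hpq (by omega)
            _ < q ^ (g + 1 + 2) := by
              have : q ^ (g + 1 + 2) = q ^ g * q * q * q := by
                rw [pow_succ, pow_succ, pow_succ]
              rw [this, pow_succ]
              have h5 : q * q ≥ 4 := by nlinarith
              nlinarith [Nat.mul_le_mul hqg h5, Nat.mul_le_mul (Nat.mul_le_mul hqg h5) hq2]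
        · right; right; left
          have hme : m = e + 2 := by omega
          subst hme
          have e4 : e + 2 - 1 = e + 1 := by omega
          rw [e4] at h
          have e5 : ((-1 : ℤ)) ^ (e + 3) = - (-1) ^ (e + 2) := by
            rw [pow_succ]; ring
          rw [e5, sub_neg_eq_add]
          exact h
      · by_cases c22 : c = 2 ∧ p = 2
        · obtain ⟨rfl, rfl⟩ := c22
          rw [show (2 - 1 : ℕ) = 1 from rfl, pow_one] at hc'
          rcases Nat.lt_or_ge m (e + 1) with hm | hm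
          · left
            obtain ⟨g, rfl⟩ : ∃ g, e = g + 2 := ⟨e - 2, by omega⟩
            have h4 : q ^ (m - 1) ≤ q ^ (g + 1) := Nat.pow_le_pow_right hq1 (by omega)
            have hqg : 1 ≤ q ^ g := Nat.one_le_pow _ _ hq1
            calc k ≤ 2 ^ 2 * (q ^ (m - 1) + 1) := hk
              _ ≤ 4 * (q ^ (g + 1) + 1) := by
                norm_num
                exact h4
              _ < q ^ (g + 2 + 2) := by
                have : q ^ (g + 2 + 2) = q ^ g * q * (q * q * q) := by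
                  rw [pow_succ, pow_succ, pow_succ, pow_succ]; ring
                rw [this, pow_succ]
                have h5 : 8 ≤ q * q * q := by nlinarith [Nat.mul_le_mul hq2 hq2]
                have h6 : 2 ≤ q ^ g * q := by nlinarith
                nlinarith [Nat.mul_le_mul h6 h5]
          · right; right; right
            have hme : m = e + 1 := by omega
            subst hme
            have e4 : e + 1 - 1 = e := by omega
            rw [e4] at h
            refine ⟨rfl, by omega, ?_⟩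
            have e5 : ((-1 : ℤ)) ^ (e + 3) = (-1) ^ (e + 1) := by
              rw [pow_succ, pow_succ]; ring
            rw [e5]
            have e6 : ((2 : ℕ) : ℤ) ^ 2 = 4 := by norm_num
            rw [e6] at h
            exact h
        · left
          have h5 := succ_le_pow_pred p c hp h0 c1 c22
          have h6 : p ^ c ≤ q ^ (p ^ (c - 1) - 1) :=
            (Nat.pow_le_pow_right (by omega) (by omega)).trans (Nat.pow_le_pow_left hpq _)
          calc k ≤ p ^ c * (q ^ (m - 1) + 1) := hk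
            _ ≤ q ^ (p ^ (c - 1) - 1) * (q ^ (m - 1) + 1) := Nat.mul_le_mul_right _ h6
            _ = q ^ (p ^ (c - 1) - 1 + (m - 1)) + q ^ (p ^ (c - 1) - 1) := by
              rw [mul_add, mul_one, ← pow_add]
            _ ≤ q ^ (e + 1) + q ^ e := Nat.add_le_add (Nat.pow_le_pow_right hq1 (by omega))
              (Nat.pow_le_pow_right hq1 (by omega))
            _ < _ := hbig
  · -- one orbit
    left
    have hk : (q + 1) * k ≤ p ^ c * (q ^ m + 1) := by
      have h3 : ((q : ℤ) + 1) * k ≤ p ^ c * ((q : ℤ) ^ m + 1) := by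
        rw [h]
        exact mul_le_mul_of_nonneg_left (by linarith [(one_pow_bounds m).2]) (by positivity)
      exact_mod_cast h3
    have key : (q + 1) * k < (q + 1) * q ^ (e + 2) → k < q ^ (e + 2) := fun h =>
      Nat.lt_of_mul_lt_mul_left h
    have hexp : (q + 1) * q ^ (e + 2) = q ^ (e + 3) + q ^ (e + 2) := by
      rw [pow_succ q (e + 2)]; ring
    rcases Nat.eq_zero_or_pos c with h0 | h0
    · subst h0
      rw [pow_zero, one_mul] at hk
      apply key
      rw [hexp]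
      have h4 : q ^ m ≤ q ^ (e + 3) := Nat.pow_le_pow_right hq1 hmd
      have h5 : 1 < q ^ (e + 2) := Nat.one_lt_pow (by omega) (by omega)
      omega
    · have hc' : m + p ^ (c - 1) ≤ e + 3 := by
        rcases hc with h | h
        · omega
        · exact h
      have h4 := Cfsg.Agent.H103.UnitaryField.pow_le_aux p q c hp hpq h0
      rcases Nat.lt_or_ge m 2 with hm | hm
      · -- `m = 1`
        have hme : m = 1 := by omega
        subst hme
        have hkc : k = p ^ c := by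
          have h7 : ((q : ℤ) + 1) * k = ((q : ℤ) + 1) * (p ^ c : ℕ) := by
            rw [h]; push_cast; ring
          have h8 := mul_left_cancel₀ (by positivity) h7
          exact_mod_cast h8
        rw [hkc]
        by_cases c1 : c = 1
        · subst c1
          rw [pow_one]
          calc p ≤ q := hpq
            _ = q ^ 1 := (pow_one q).symm
            _ < q ^ (e + 2) := Nat.pow_lt_pow_right (by omega) (by omega)
        · by_cases c22 : c = 2 ∧ p = 2
          · obtain ⟨rfl, rfl⟩ := c22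
            by_cases hq3 : q = 2
            · have he : 1 ≤ e := by
                by_contra hcon
                exact h32 ⟨by omega, hq3⟩
              rw [hq3]
              exact Nat.pow_lt_pow_right (by omega) (by omega)
            · have h9 : 3 ≤ q := by omega
              calc 2 ^ 2 < q ^ 2 := Nat.pow_lt_pow_left (by omega) (by omega)
                _ ≤ q ^ (e + 2) := Nat.pow_le_pow_right hq1 (by omega)
          · have h5 := succ_le_pow_pred p c hp h0 c1 c22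
            calc p ^ c ≤ q ^ c := Nat.pow_le_pow_left hpq _
              _ < q ^ (e + 2) := Nat.pow_lt_pow_right (by omega) (by omega)
      · apply key
        rw [hexp]
        calc (q + 1) * k ≤ p ^ c * (q ^ m + 1) := hk
          _ ≤ q ^ (p ^ (c - 1)) * (q ^ m + 1) := Nat.mul_le_mul_right _ h4
          _ = q ^ (p ^ (c - 1) + m) + q ^ (p ^ (c - 1)) := by rw [mul_add, mul_one, ← pow_add]
          _ ≤ q ^ (e + 3) + q ^ (e + 1) := Nat.add_le_add (Nat.pow_le_pow_right hq1 (by omega))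
              (Nat.pow_le_pow_right hq1 (by omega))
          _ < _ := by
            have : q ^ (e + 1) < q ^ (e + 2) := Nat.pow_lt_pow_right (by omega) (by omega)
            omega

/-- The four targets. -/
theorem targetA (p q d f k : ℕ) (hp : 2 ≤ p) (hq : q = p ^ f) (hf : 2 ≤ f) (hd : 3 ≤ d) (hodd : Odd d)
    (h : k < q ^ (d - 1) ∨ (k : ℤ) ≤ (q : ℤ) ^ (d - 1) + (-1) ^ d ∨
      (k : ℤ) ≤ p * ((q : ℤ) ^ (d - 2) - (-1) ^ d) ∨
      (p = 2 ∧ 4 ≤ d ∧ (k : ℤ) ≤ 4 * ((q : ℤ) ^ (d - 3) + (-1) ^ d))) : k ≤ q ^ (d - 1) - 1 := by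
  have hq2 : 2 * p ≤ q := by
    rw [hq]
    calc 2 * p ≤ p * p := Nat.mul_le_mul_right _ hp
      _ = p ^ 2 := by ring
      _ ≤ p ^ f := Nat.pow_le_pow_right (by omega) hf
  rw [hodd.neg_one_pow] at h
  have hpos : 1 ≤ q ^ (d - 1) := Nat.one_le_pow _ _ (by omega)
  obtain ⟨e, rfl⟩ := Nat.exists_eq_add_of_le' hd
  have e1 : e + 3 - 1 = e + 2 := by omega
  have e2 : e + 3 - 2 = e + 1 := by omega
  have e3 : e + 3 - 3 = e := by omega
  rw [e1, e2, e3] at h
  rw [e1] at hpos ⊢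
  have hqe : 1 ≤ q ^ e := Nat.one_le_pow _ _ (by omega)
  have p1 : q ^ (e + 1) = q ^ e * q := pow_succ _ _
  have p2 : q ^ (e + 2) = q ^ e * q * q := by rw [pow_succ, pow_succ]
  rcases h with h | h | h | ⟨hp2, h4, h⟩
  · omega
  · have h5 : (k : ℤ) + 1 ≤ (q : ℤ) ^ (e + 2) := by linarith
    have h6 : k + 1 ≤ q ^ (e + 2) := by exact_mod_cast h5
    omega
  · have h5 : (k : ℤ) ≤ p * ((q : ℤ) ^ (e + 1) + 1) := by linarith
    have h6 : k ≤ p * (q ^ (e + 1) + 1) := by exact_mod_cast h5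
    have h7 : 2 * k ≤ q * (q ^ (e + 1) + 1) := by
      calc 2 * k ≤ 2 * (p * (q ^ (e + 1) + 1)) := Nat.mul_le_mul_left _ h6
        _ = (2 * p) * (q ^ (e + 1) + 1) := by ring
        _ ≤ _ := Nat.mul_le_mul_right _ hq2
    have h8 : q * (q ^ (e + 1) + 1) = q ^ (e + 2) + q := by rw [pow_succ q (e + 1)]; ring
    rw [h8] at h7
    have h9 : 4 * q ≤ q ^ (e + 2) := by
      rw [p2]
      have h10 : 1 * 4 ≤ q ^ e * q := Nat.mul_le_mul hqe (by omega)
      exact Nat.mul_le_mul_right q h10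
    omega
  · have h5 : (k : ℤ) ≤ 4 * ((q : ℤ) ^ e) := by linarith
    have h6 : k ≤ 4 * q ^ e := by exact_mod_cast h5
    have h7 : 2 * (4 * q ^ e) ≤ q ^ (e + 2) := by
      rw [p2]
      have h8 : 16 ≤ q * q := Nat.mul_le_mul (by omega : 4 ≤ q) (by omega : 4 ≤ q)
      calc 2 * (4 * q ^ e) = q ^ e * 8 := by ring
        _ ≤ q ^ e * (q * q) := Nat.mul_le_mul_left _ (by omega)
        _ = _ := by ring
    omega

theorem targetB (p d k : ℕ) (hp : 2 ≤ p) (hd : 3 ≤ d) (hodd : Odd d)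
    (h : k < p ^ (d - 1) ∨ (k : ℤ) ≤ (p : ℤ) ^ (d - 1) + (-1) ^ d ∨
      (k : ℤ) ≤ p * ((p : ℤ) ^ (d - 2) - (-1) ^ d) ∨
      (p = 2 ∧ 4 ≤ d ∧ (k : ℤ) ≤ 4 * ((p : ℤ) ^ (d - 3) + (-1) ^ d))) :
    k ≤ (p ^ (d - 2) + 1) * p := by
  rw [hodd.neg_one_pow] at h
  obtain ⟨e, rfl⟩ := Nat.exists_eq_add_of_le' hd
  have e1 : e + 3 - 1 = e + 2 := by omega
  have e2 : e + 3 - 2 = e + 1 := by omega
  have e3 : e + 3 - 3 = e := by omega
  rw [e1, e2, e3] at h
  rw [e2]
  have hT : (p ^ (e + 1) + 1) * p = p ^ (e + 2) + p := by rw [pow_succ p (e + 1)]; ring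
  rw [hT]
  rcases h with h | h | h | ⟨hp2, h4, h⟩
  · omega
  · have h5 : (k : ℤ) + 1 ≤ (p : ℤ) ^ (e + 2) := by linarith
    have h6 : k + 1 ≤ p ^ (e + 2) := by exact_mod_cast h5
    omega
  · have h5 : (k : ℤ) ≤ ((p : ℤ) ^ (e + 1) + 1) * p := by linarith
    have h6 : k ≤ (p ^ (e + 1) + 1) * p := by exact_mod_cast h5
    omega
  · subst hp2
    have h5 : (k : ℤ) ≤ (2 : ℤ) ^ (e + 2) := by
      have : (2 : ℤ) ^ (e + 2) = 4 * 2 ^ e := by rw [pow_succ, pow_succ]; ring
      rw [this]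
      push_cast at h
      linarith
    have h6 : k ≤ 2 ^ (e + 2) := by exact_mod_cast h5
    omega

theorem targetC (p q d k : ℕ) (hp : 2 ≤ p) (hpq : p ≤ q) (h4q : p = 2 → 4 ≤ q) (hd : 3 ≤ d) (heven : Even d)
    (h : k < q ^ (d - 1) ∨ (k : ℤ) ≤ (q : ℤ) ^ (d - 1) + (-1) ^ d ∨
      (k : ℤ) ≤ p * ((q : ℤ) ^ (d - 2) - (-1) ^ d) ∨
      (p = 2 ∧ 4 ≤ d ∧ (k : ℤ) ≤ 4 * ((q : ℤ) ^ (d - 3) + (-1) ^ d))) : k ≤ q ^ (d - 1) + 1 := by
  rw [heven.neg_one_pow] at h
  obtain ⟨e, rfl⟩ := Nat.exists_eq_add_of_le' hd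
  have e1 : e + 3 - 1 = e + 2 := by omega
  have e2 : e + 3 - 2 = e + 1 := by omega
  have e3 : e + 3 - 3 = e := by omega
  rw [e1, e2, e3] at h
  rw [e1]
  have hqe : 1 ≤ q ^ e := Nat.one_le_pow _ _ (by omega)
  have p1 : q ^ (e + 1) = q ^ e * q := pow_succ _ _
  have p2 : q ^ (e + 2) = q ^ e * q * q := by rw [pow_succ, pow_succ]
  rcases h with h | h | h | ⟨hp2, h4, h⟩
  · omega
  · exact_mod_cast h
  · have h5 : (k : ℤ) ≤ p * ((q : ℤ) ^ (e + 1)) := by
      have : (0 : ℤ) ≤ p := by positivity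
      linarith
    have h6 : k ≤ p * (q ^ (e + 1)) := by exact_mod_cast h5
    have h7 : p * q ^ (e + 1) ≤ q ^ (e + 2) := by
      rw [pow_succ q (e + 1), mul_comm]
      exact Nat.mul_le_mul_left _ hpq
    omega
  · have h5 : (k : ℤ) ≤ 4 * ((q : ℤ) ^ e + 1) := by linarith
    have h6 : k ≤ 4 * (q ^ e + 1) := by exact_mod_cast h5
    have hq4 := h4q hp2
    have h7 : 16 * q ^ e ≤ q ^ (e + 2) := by
      rw [p2]
      have h8 : 16 ≤ q * q := Nat.mul_le_mul hq4 hq4
      calc 16 * q ^ e ≤ (q * q) * q ^ e := Nat.mul_le_mul_right _ h8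
        _ = _ := by ring
    omega

theorem targetD (d k : ℕ) (hd : 3 ≤ d) (heven : Even d)
    (h : k < 2 ^ (d - 1) ∨ (k : ℤ) ≤ (2 : ℤ) ^ (d - 1) + (-1) ^ d ∨
      (k : ℤ) ≤ 2 * ((2 : ℤ) ^ (d - 2) - (-1) ^ d) ∨
      ((2 : ℕ) = 2 ∧ 4 ≤ d ∧ (k : ℤ) ≤ 4 * ((2 : ℤ) ^ (d - 3) + (-1) ^ d))) :
    k ≤ 4 * (2 ^ (d - 3) + 1) := by
  rw [heven.neg_one_pow] at h
  obtain ⟨e, rfl⟩ := Nat.exists_eq_add_of_le' hd
  have e1 : e + 3 - 1 = e + 2 := by omega
  have e2 : e + 3 - 2 = e + 1 := by omega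
  have e3 : e + 3 - 3 = e := by omega
  rw [e1, e2, e3] at h
  rw [e3]
  have p1 : 2 ^ (e + 1) = 2 ^ e * 2 := pow_succ _ _
  have p2 : 2 ^ (e + 2) = 2 ^ e * 2 * 2 := by rw [pow_succ, pow_succ]
  have p1' : (2 : ℤ) ^ (e + 1) = 2 ^ e * 2 := pow_succ _ _
  have p2' : (2 : ℤ) ^ (e + 2) = 2 ^ e * 2 * 2 := by rw [pow_succ, pow_succ]
  have hcast : ((2 ^ e : ℕ) : ℤ) = (2 : ℤ) ^ e := by push_cast; rfl
  rcases h with h | h | h | ⟨-, h4, h⟩
  · omega
  · rw [p2', ← hcast] at h
    omega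
  · rw [p1', ← hcast] at h
    omega
  · rw [← hcast] at h
    omega

end Cfsg.Agent.H103.UnitaryNum
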